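import Mathlib
import Cfsg.Agent.S0111
import Cfsg.Agent.BlocksChars.ItoPSolvable

/-!
# No class size divisible by four

If no class size is divisible by `4`, every element centralizes, up to conjugacy, a subgroup of
index at most two of a fixed Sylow 2-subgroup. In a simple group every such subgroup contains a
conjugate of a given involution (Thompson transfer), so the conjugates of one involution
centralizer cover the group, which is impossible. Granting the odd order theorem this gives
solvability.
-/

set_option autoImplicit false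

namespace Cfsg.Agent.ClassSizeFour

universe u

open Subgroup
open scoped Pointwise

/-- class sizes in a normal subgroup divide those in the group -/
theorem relIndex_dvd {G : Type*} [Group G] [Finite G] (C N : Subgroup G) [N.Normal] :
    C.relIndex N ∣ C.index := by
  have h1 : C.relIndex N * N.index = (C ⊓ N).index := by
    rw [← inf_relIndex_right, relIndex_mul_index inf_le_right]
  have h2 : N.relIndex C * C.index = (C ⊓ N).index := by
    rw [← inf_relIndex_left, relIndex_mul_index inf_le_left]
  have h3 : N.relIndex C * (C ⊔ N).index = N.index := by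
    rw [← relIndex_sup_right (H := C), relIndex_mul_index le_sup_right]
  refine ⟨(C ⊔ N).index, Nat.eq_of_mul_eq_mul_left
    (Nat.pos_of_ne_zero (show N.relIndex C ≠ 0 from (N.subgroupOf C).index_ne_zero_of_finite)) ?_⟩
  rw [h2, ← h1, ← h3]
  ring

theorem no_four_subgroup {G : Type*} [Group G] [Finite G]
    (h : ∀ x : G, ¬ 4 ∣ (centralizer ({x} : Set G)).index) (N : Subgroup G) [N.Normal] (x : N) :
    ¬ 4 ∣ (centralizer ({x} : Set N)).index := by
  have hc : centralizer ({x} : Set N) = (centralizer ({(x : G)} : Set G)).subgroupOf N := by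
    ext y
    simp only [mem_subgroupOf, mem_centralizer_singleton_iff, Subtype.ext_iff, Subgroup.coe_mul]
  rw [hc]
  exact fun h4 => h x (h4.trans (relIndex_dvd _ N))

theorem no_four_quotient {G : Type*} [Group G] [Finite G]
    (h : ∀ x : G, ¬ 4 ∣ (centralizer ({x} : Set G)).index) (N : Subgroup G) [N.Normal]
    (x : G ⧸ N) : ¬ 4 ∣ (centralizer ({x} : Set (G ⧸ N))).index := by
  obtain ⟨g, rfl⟩ := QuotientGroup.mk'_surjective N x
  intro h4
  refine h g (h4.trans ((index_dvd_of_le ?_).trans
    (index_map_dvd (H := centralizer ({g} : Set G)) (QuotientGroup.mk'_surjective N))))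
  rintro _ ⟨c, hc, rfl⟩
  rw [mem_centralizer_singleton_iff, ← map_mul, ← map_mul, mem_centralizer_singleton_iff.1 hc]

/-- no non-abelian simple group of even order has all class sizes not divisible by four -/
theorem simple_false {G : Type*} [Group G] [Finite G] [IsSimpleGroup G]
    (hna : ¬ IsMulCommutative G) (heven : 2 ∣ Nat.card G)
    (h : ∀ x : G, ¬ 4 ∣ (centralizer ({x} : Set G)).index) : False := by
  classical
  haveI : Fact (Nat.Prime 2) := ⟨Nat.prime_two⟩
  obtain ⟨z, hz⟩ := exists_prime_orderOf_dvd_card' (G := G) 2 heven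
  have hz1 : z ≠ 1 := fun e => by simp [e] at hz
  obtain ⟨S, hS⟩ := (IsPGroup.of_card (p := 2) (n := 1)
    (by rw [Nat.card_zpowers, hz, pow_one]) : IsPGroup 2 (zpowers z)).exists_le_sylow
  have hzS : z ∈ (S : Subgroup G) := hS (mem_zpowers z)
  -- no normal subgroup of index two
  have hno : ∀ M : Subgroup G, M.Normal → M.index ≠ 2 := by
    intro M hM hM2
    rcases hM.eq_bot_or_eq_top with rfl | rfl
    · rw [index_bot] at hM2
      haveI : IsCyclic G := isCyclic_of_prime_card hM2
      exact hna ⟨⟨fun a b => IsCyclic.commGroup.mul_comm a b⟩⟩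
    · rw [index_top] at hM2; omega
  -- every small-index subgroup of `S` contains a conjugate of `z`
  have hmeet : ∀ T : Subgroup G, T ≤ (S : Subgroup G) → (T.relIndex (S : Subgroup G) ∣ 2) →
      ∃ g : G, g * z * g⁻¹ ∈ T := by
    intro T hTS hT
    rcases (Nat.dvd_prime Nat.prime_two).1 hT with hT | hT
    · exact ⟨1, by simpa using relIndex_eq_one.1 hT hzS⟩
    · by_cases hzT : z ∈ T
      · exact ⟨1, by simpa using hzT⟩
      rcases S0111.result S T hTS hT z hz hzS hzT with ⟨M, hM, hM2, -⟩ | hg
      · exact absurd hM2 (hno M hM)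
      · exact hg
  -- every element is conjugate into the centralizer of `z`
  have hcov : ∀ x : G, ∃ g : G, g⁻¹ * x * g ∈ centralizer ({z} : Set G) := by
    intro x
    set C := centralizer ({x} : Set G)
    obtain ⟨P⟩ : Nonempty (Sylow 2 C) := inferInstance
    set P' := (P : Subgroup C).map C.subtype
    obtain ⟨R, hR⟩ := (P.2.map C.subtype : IsPGroup 2 P').exists_le_sylow
    obtain ⟨g, hg⟩ := MulAction.exists_smul_eq G R S
    -- the index of `P'` in `R` is at most two
    have hidx : P'.relIndex (R : Subgroup G) ∣ 2 := by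
      obtain ⟨k, hk⟩ := R.2.index (P'.subgroupOf (R : Subgroup G))
      have h1 : P'.relIndex (R : Subgroup G) ∣ P'.index := by
        rw [← relIndex_mul_index hR]; exact dvd_mul_right _ _
      have h2 : P'.index = (P : Subgroup C).index * C.index := by
        rw [index_map_subtype]
      rw [relIndex, hk] at *
      rcases k with _ | _ | k
      · simp
      · simp
      · exfalso
        refine h x (Nat.Coprime.dvd_of_dvd_mul_left ?_ (h2 ▸ (dvd_trans ⟨2 ^ k, by ring⟩ h1)))
        exact Nat.Coprime.pow_left 2 (Nat.prime_two.coprime_iff_not_dvd.2 P.not_dvd_index)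
    have hgc : (MulAut.conj g • P') ≤ (S : Subgroup G) := by
      rw [← hg, Sylow.coe_subgroup_smul]
      exact (pointwise_smul_le_pointwise_smul_iff).2 hR
    obtain ⟨k, hk⟩ := hmeet (MulAut.conj g • P') hgc (by
      rw [← hg, Sylow.coe_subgroup_smul, relIndex_pointwise_smul]
      exact hidx)
    rw [mem_pointwise_smul_iff_inv_smul_mem] at hk
    obtain ⟨c, hcP, hc⟩ := hk
    refine ⟨g⁻¹ * k, mem_centralizer_singleton_iff.2 ?_⟩
    have hcx := mem_centralizer_singleton_iff.1 c.2
    rw [show (c : G) = g⁻¹ * (k * z * k⁻¹) * g from by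
      refine hc.trans ?_
      simp [MulAut.smul_def, MulAut.conj_symm_apply]
      group] at hcx
    calc (g⁻¹ * k)⁻¹ * x * (g⁻¹ * k) * z
        = (g⁻¹ * k)⁻¹ * (x * (g⁻¹ * (k * z * k⁻¹) * g)) * (g⁻¹ * k) := by group
      _ = (g⁻¹ * k)⁻¹ * ((g⁻¹ * (k * z * k⁻¹) * g) * x) * (g⁻¹ * k) := by rw [hcx]
      _ = z * ((g⁻¹ * k)⁻¹ * x * (g⁻¹ * k)) := by group
  -- so `z` is central
  have htop := Cfsg.Agent.BlocksChars.ItoPSolvable.eq_top_of_conj_cover _ hcov
  have hzc : z ∈ center G := mem_center_iff.2 fun y =>
    mem_centralizer_singleton_iff.1 (htop ▸ mem_top y)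
  rcases (inferInstance : (center G).Normal).eq_bot_or_eq_top with hb | ht
  · exact hz1 (mem_bot.1 (hb ▸ hzc))
  · exact hna ⟨⟨fun a b => mem_center_iff.1 (ht ▸ mem_top b) a⟩⟩

/-- no class size divisible by four implies solvable, granting the odd order theorem -/
theorem solvable_of_odd_order
    (hFT : ∀ (H : Type u) [Group H] [Finite H], Odd (Nat.card H) → Group.IsSolvable H) :
    ∀ (n : ℕ) (G : Type u) [Group G] [Finite G], Nat.card G = n →
      (∀ x : G, ¬ 4 ∣ (centralizer ({x} : Set G)).index) → Group.IsSolvable G := by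
  intro n
  induction n using Nat.strong_induction_on with
  | _ n ih =>
    intro G _ _ hn h
    by_cases hN : ∃ N : Subgroup G, N.Normal ∧ N ≠ ⊥ ∧ N ≠ ⊤
    · obtain ⟨N, hNn, hN1, hN2⟩ := hN
      haveI := hNn
      have hN1' : 1 < Nat.card N := (one_lt_card_iff_ne_bot N).2 hN1
      have hN2' : 1 < N.index := one_lt_index_of_ne_top hN2
      have hmul : Nat.card N * N.index = n := by rw [N.card_mul_index, hn]
      haveI : Group.IsSolvable N := ih (Nat.card N) (by nlinarith) N rfl (no_four_subgroup h N)
      haveI : Group.IsSolvable (G ⧸ N) :=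
        ih (Nat.card (G ⧸ N)) (by rw [← index_eq_card]; nlinarith) (G ⧸ N) rfl (no_four_quotient h N)
      exact (Group.isSolvable_iff_subgroup_quotient N).2 ⟨inferInstance, inferInstance⟩
    · rcases subsingleton_or_nontrivial G with hs | hnt
      · infer_instance
      haveI : IsSimpleGroup G := ⟨fun N hN' => by
        by_contra! hc
        exact hN ⟨N, hN', hc.1, hc.2⟩⟩
      by_cases hna : IsMulCommutative G
      · exact Group.isSolvable_of_comm hna.is_comm.comm
      by_cases hev : 2 ∣ Nat.card G
      · exact (simple_false hna hev h).elim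
      · exact hFT G (Nat.not_even_iff_odd.1 fun he => hev he.two_dvd)

end Cfsg.Agent.ClassSizeFour
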